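import Mathlib
import Cfsg.Agent.Lib.Helper28.CoverL

/-!
# Word data for the three cover presentations used for the Schur multiplier of the Held group

Letters: `2 * i` is the generator `i`, `2 * i + 1` its inverse.
Level 2: `L2(16)` on `u, v`; level 1: `Sp4(4)` on `u, v, t`; level 0: the Held group on `a, …, g`.
`relL j`: relators; `facsL j`: for each generator `x` a list of relators or inverses of relators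
whose product has the exponent sums of `x⁻¹`.
-/

set_option autoImplicit false
set_option maxRecDepth 1000000

namespace Cfsg.Agent.Lib.Helper28.HeMult.Words

open Cfsg.Agent.Lib.Helper28.CovL

/-- the relators of level 0 -/
def relL0 : List (List ℕ) :=
  [[0, 0],
    [2, 2],
    [4, 4],
    [6, 6],
    [8, 8],
    [10, 10],
    [12, 12],
    [0, 2, 0, 2, 0, 2, 0, 2],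
    [0, 4, 0, 4],
    [0, 6, 0, 6],
    [0, 8, 0, 8],
    [0, 10, 0, 10],
    [0, 12, 0, 12],
    [2, 4, 2, 4, 2, 4],
    [2, 6, 2, 6],
    [2, 8, 2, 8],
    [2, 10, 2, 10],
    [2, 12, 2, 12],
    [4, 6, 4, 6, 4, 6, 4, 6, 4, 6, 4, 6, 4, 6, 4, 6, 4, 6, 4, 6],
    [4, 8, 4, 8],
    [4, 10, 4, 10],
    [4, 12, 4, 12],
    [6, 8, 6, 8, 6, 8],
    [6, 10, 6, 10, 6, 10],
    [6, 12, 6, 12, 6, 12],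
    [8, 10, 8, 10],
    [8, 12, 8, 12],
    [10, 12, 10, 12, 10, 12, 10, 12],
    [8, 13, 11, 13, 11],
    [8, 5, 3, 1, 5, 3, 1, 5, 3, 1],
    [0, 7, 5, 7, 5, 7, 5, 7, 5, 7, 5],
    [4, 6, 10, 12, 4, 6, 10, 12, 4, 6, 10, 12, 4, 6, 10, 12]]

/-- the factorisations of level 0 -/
def facsL0 : List (List (List ℕ)) :=
  [[[10, 12, 10, 12, 9],
    [11, 11],
    [13, 13],
    [8, 5, 3, 1, 5, 3, 1, 5, 3, 1],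
    [0, 0],
    [2, 4, 2, 4, 2, 4]],
   [[5, 3, 5, 3, 5, 3],
    [5, 3, 5, 3, 5, 3],
    [2, 2],
    [5, 5],
    [8, 13, 11, 13, 11],
    [8, 13, 11, 13, 11],
    [10, 10],
    [10, 10],
    [12, 12],
    [12, 12],
    [0, 2, 4, 0, 2, 4, 0, 2, 4, 9],
    [1, 1],
    [4, 6, 4, 6, 4, 6, 4, 6, 4, 6, 1],
    [7, 7],
    [9, 7, 9, 7, 9, 7],
    [8, 8]],
   [[10, 12, 10, 12, 9],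
    [10, 12, 10, 12, 9],
    [11, 11],
    [11, 11],
    [13, 13],
    [13, 13],
    [8, 5, 3, 1, 5, 3, 1, 5, 3, 1],
    [0, 0],
    [2, 4, 2, 4, 2, 4],
    [0, 7, 5, 7, 5, 7, 5, 7, 5, 7, 5],
    [6, 6],
    [6, 8, 6, 8, 6, 8],
    [9, 9],
    [4, 4],
    [4, 4]],
   [[9, 7, 9, 7, 9, 7],
    [6, 6],
    [8, 8],
    [8, 13, 11, 13, 11],
    [10, 10],
    [12, 12]],
   [[10, 12, 10, 12, 9],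
    [11, 11],
    [13, 13]],
   [[11, 7, 11, 7, 11, 7],
    [6, 8, 6, 8, 6, 8],
    [9, 9],
    [10, 12, 10, 12, 9],
    [13, 13]],
   [[13, 7, 13, 7, 13, 7],
    [6, 8, 6, 8, 6, 8],
    [9, 9],
    [10, 12, 10, 12, 9],
    [11, 11]]]

/-- the relators of level 1 -/
def relL1 : List (List ℕ) :=
  [[0, 0],
    [2, 2, 2],
    [0, 2, 0, 2, 0, 2, 0, 2, 0, 2, 0, 2, 0, 2, 0, 2, 0, 2, 0, 2, 0, 2, 0, 2, 0, 2, 0, 2, 0, 2],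
    [0, 2, 0, 2, 0, 2, 0, 2, 0, 2, 0, 3, 0, 3, 0, 3, 0, 2, 0, 2, 0, 2, 0, 2, 0, 2, 0, 3, 0, 3, 0, 3],
    [5, 3, 4, 0, 2, 0],
    [5, 0, 5, 0, 5, 0],
    [5, 3, 3, 4, 0, 3, 0],
    [5, 3, 0, 5, 0, 5, 2, 0],
    [5, 3, 0, 5, 2, 0, 5, 0],
    [4, 4, 4, 4, 4, 4, 4, 4, 4, 4],
    [5, 5, 5, 5, 5, 5, 5, 5, 5, 5],
    [5, 5, 3, 0, 4, 2, 5, 0, 4, 4, 2],
    [5, 5, 5, 5, 5, 0, 4, 4, 4, 4, 4, 0],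
    [5, 5, 5, 5, 0, 5, 5, 5, 5, 0, 4, 0],
    [5, 5, 5, 0, 4, 0, 5, 5, 5, 0, 4, 0],
    [5, 5, 3, 5, 0, 5, 2, 5, 3, 5, 2, 0],
    [5, 5, 3, 5, 2, 0, 5, 5, 3, 5, 2, 0],
    [5, 5, 3, 0, 2, 4, 0, 5, 3, 5, 2, 0],
    [5, 5, 3, 0, 4, 3, 3, 5, 0, 4, 4, 2],
    [5, 5, 3, 0, 4, 0, 2, 5, 3, 5, 2, 0],
    [5, 5, 3, 0, 4, 2, 5, 0, 4, 4, 3, 3],
    [5, 5, 3, 4, 4, 3, 5, 5, 3, 4, 4, 3],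
    [5, 5, 3, 4, 4, 3, 5, 0, 3, 0, 4, 3],
    [5, 5, 0, 4, 3, 5, 0, 3, 3, 4, 4, 3],
    [5, 5, 2, 0, 4, 3, 5, 0, 3, 4, 4, 2],
    [5, 3, 5, 3, 5, 3, 5, 3, 5, 3, 5, 3],
    [5, 3, 5, 0, 5, 2, 5, 3, 5, 0, 5, 2],
    [5, 3, 5, 0, 5, 2, 5, 3, 0, 2, 4, 0],
    [5, 3, 5, 0, 5, 2, 5, 3, 0, 4, 0, 2],
    [5, 3, 0, 2, 4, 3, 0, 5, 0, 2, 4, 0],
    [5, 3, 0, 2, 4, 0, 5, 3, 0, 2, 4, 0],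
    [5, 3, 0, 4, 0, 2, 5, 3, 0, 4, 0, 2],
    [5, 0, 3, 0, 4, 3, 5, 0, 3, 0, 4, 3],
    [5, 5, 5, 0, 5, 0, 3, 5, 0, 2, 4, 4, 3],
    [5, 5, 3, 5, 3, 0, 5, 3, 5, 3, 5, 2, 0],
    [5, 5, 3, 5, 0, 5, 0, 2, 5, 0, 4, 4, 2],
    [5, 5, 3, 5, 0, 5, 2, 5, 3, 5, 3, 3, 0],
    [5, 5, 3, 3, 4, 4, 2, 5, 0, 2, 0, 4, 2],
    [5, 5, 3, 0, 3, 3, 4, 0, 5, 3, 5, 2, 0],
    [5, 5, 3, 0, 3, 4, 0, 3, 5, 3, 5, 2, 0],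
    [5, 5, 3, 0, 2, 4, 0, 5, 3, 5, 3, 3, 0],
    [5, 5, 3, 0, 2, 4, 2, 0, 5, 2, 5, 2, 0],
    [5, 5, 3, 0, 4, 3, 3, 5, 0, 4, 4, 3, 3],
    [5, 5, 3, 0, 4, 2, 5, 5, 0, 5, 0, 4, 2],
    [5, 5, 3, 4, 4, 3, 5, 0, 2, 2, 0, 4, 3],
    [5, 5, 0, 5, 3, 4, 4, 2, 5, 0, 4, 4, 2],
    [5, 5, 0, 5, 2, 0, 4, 3, 5, 5, 0, 4, 3],
    [5, 5, 0, 4, 3, 5, 5, 2, 0, 5, 0, 4, 3],
    [5, 5, 0, 4, 3, 5, 0, 4, 0, 2, 0, 4, 3],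
    [5, 5, 0, 4, 3, 0, 2, 5, 3, 5, 2, 0, 3],
    [5, 5, 2, 0, 4, 3, 5, 0, 3, 4, 4, 3, 3],
    [5, 5, 2, 0, 4, 3, 3, 5, 0, 3, 4, 4, 3],
    [5, 3, 5, 3, 5, 3, 5, 3, 5, 3, 5, 2, 2],
    [5, 3, 5, 3, 5, 0, 5, 2, 5, 3, 5, 3, 0],
    [5, 3, 5, 3, 0, 5, 3, 5, 3, 0, 2, 4, 0],
    [5, 3, 5, 3, 0, 5, 3, 5, 3, 0, 4, 0, 2],
    [5, 3, 5, 0, 5, 2, 5, 3, 0, 3, 3, 4, 0],
    [5, 3, 5, 0, 5, 2, 5, 3, 0, 3, 4, 0, 3],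
    [5, 3, 0, 3, 3, 4, 0, 5, 3, 0, 2, 4, 0],
    [5, 3, 0, 3, 3, 4, 0, 5, 3, 0, 4, 0, 2],
    [5, 3, 0, 3, 4, 0, 3, 5, 3, 0, 2, 4, 0],
    [5, 3, 0, 3, 4, 0, 3, 5, 3, 0, 4, 0, 2],
    [5, 3, 0, 2, 4, 3, 0, 5, 0, 3, 4, 0, 3],
    [5, 3, 0, 2, 4, 0, 5, 3, 0, 4, 0, 3, 3],
    [5, 0, 3, 0, 4, 3, 5, 0, 3, 0, 4, 2, 2],
    [5, 5, 5, 5, 5, 5, 5, 5, 5, 0, 3, 0, 5, 2],
    [5, 5, 5, 5, 5, 5, 5, 5, 5, 0, 2, 0, 5, 3],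
    [5, 5, 5, 5, 5, 3, 0, 5, 2, 5, 5, 5, 5, 0],
    [5, 5, 5, 5, 5, 0, 4, 4, 4, 4, 3, 4, 0, 2],
    [5, 5, 5, 5, 5, 0, 4, 4, 4, 4, 2, 4, 0, 3],
    [5, 5, 5, 5, 5, 2, 0, 5, 3, 5, 5, 5, 5, 0],
    [5, 5, 5, 5, 3, 0, 5, 2, 5, 5, 5, 0, 4, 0],
    [5, 5, 5, 5, 0, 5, 5, 5, 5, 0, 3, 4, 0, 2],
    [5, 5, 5, 5, 0, 5, 5, 5, 5, 0, 2, 4, 0, 3],
    [5, 5, 5, 5, 0, 4, 3, 0, 5, 2, 5, 5, 5, 0],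
    [5, 5, 5, 5, 0, 4, 2, 0, 5, 3, 5, 5, 5, 0],
    [5, 5, 5, 5, 2, 0, 5, 3, 5, 5, 5, 0, 4, 0],
    [5, 5, 5, 0, 5, 0, 3, 5, 0, 3, 3, 4, 4, 3],
    [5, 5, 5, 0, 3, 4, 0, 2, 5, 5, 5, 0, 4, 0],
    [5, 5, 5, 0, 2, 4, 0, 3, 5, 5, 5, 0, 4, 0],
    [5, 5, 5, 0, 4, 3, 0, 5, 2, 5, 5, 0, 4, 0],
    [5, 5, 5, 0, 4, 0, 5, 5, 0, 4, 0, 4, 4, 0],
    [5, 5, 5, 0, 4, 2, 0, 5, 3, 5, 5, 0, 4, 0],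
    [5, 5, 5, 0, 4, 4, 0, 4, 0, 5, 5, 0, 4, 0],
    [5, 5, 3, 5, 3, 5, 3, 5, 3, 5, 3, 0, 3, 0],
    [5, 5, 3, 5, 3, 0, 2, 4, 2, 4, 2, 4, 3, 0],
    [5, 5, 3, 5, 0, 5, 0, 2, 5, 0, 4, 4, 3, 3],
    [5, 5, 3, 3, 4, 4, 2, 5, 0, 3, 3, 0, 4, 2],
    [5, 5, 3, 0, 5, 3, 0, 4, 3, 5, 5, 0, 4, 3],
    [5, 5, 3, 0, 5, 0, 4, 2, 5, 5, 2, 0, 4, 3],
    [5, 5, 3, 4, 4, 3, 5, 0, 3, 5, 0, 5, 0, 3],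
    [5, 5, 3, 4, 4, 3, 0, 4, 0, 4, 3, 0, 4, 3],
    [5, 5, 0, 4, 3, 0, 3, 3, 5, 3, 5, 2, 0, 3],
    [5, 5, 0, 4, 3, 0, 2, 5, 3, 5, 3, 3, 0, 3],
    [5, 5, 0, 4, 3, 0, 2, 5, 3, 5, 2, 0, 2, 2],
    [5, 5, 0, 4, 3, 0, 2, 5, 2, 2, 5, 2, 0, 3],
    [5, 5, 2, 5, 0, 5, 0, 3, 5, 0, 3, 4, 4, 2],
    [5, 5, 2, 5, 0, 5, 0, 2, 5, 0, 3, 4, 4, 3],
    [5, 5, 2, 0, 4, 3, 5, 0, 4, 0, 3, 0, 4, 2],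
    [5, 3, 5, 3, 5, 3, 0, 2, 4, 2, 4, 2, 4, 0],
    [5, 3, 5, 3, 5, 2, 2, 5, 3, 5, 3, 5, 2, 2],
    [5, 3, 5, 3, 0, 5, 3, 5, 3, 0, 3, 3, 4, 0],
    [5, 3, 5, 3, 0, 5, 3, 5, 3, 0, 3, 4, 0, 3],
    [5, 3, 0, 3, 3, 4, 0, 5, 3, 0, 3, 3, 4, 0],
    [5, 3, 0, 3, 4, 0, 3, 5, 3, 0, 3, 4, 0, 3],
    [5, 3, 0, 3, 4, 0, 3, 5, 3, 0, 4, 0, 3, 3],
    [5, 3, 0, 2, 4, 2, 0, 5, 2, 0, 3, 4, 0, 3],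
    [5, 0, 5, 0, 3, 5, 0, 3, 0, 4, 3, 5, 0, 3],
    [5, 0, 5, 0, 2, 5, 0, 2, 0, 4, 2, 5, 0, 2],
    [5, 0, 3, 0, 4, 2, 2, 5, 0, 3, 0, 4, 2, 2]]

/-- the factorisations of level 1 -/
def facsL1 : List (List (List ℕ)) :=
  [[[0, 0],
    [0, 0],
    [0, 0],
    [0, 0],
    [0, 0],
    [0, 0],
    [0, 0],
    [2, 2, 2],
    [2, 2, 2],
    [2, 2, 2],
    [2, 2, 2],
    [2, 2, 2],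
    [3, 1, 3, 1, 3, 1, 3, 1, 3, 1, 3, 1, 3, 1, 3, 1, 3, 1, 3, 1, 3, 1, 3, 1, 3, 1, 3, 1, 3, 1]],
   [[0, 0],
    [0, 0],
    [0, 0],
    [0, 0],
    [0, 0],
    [0, 0],
    [0, 0],
    [0, 0],
    [2, 2, 2],
    [2, 1, 2, 1, 2, 1, 3, 1, 3, 1, 3, 1, 3, 1, 3, 1, 2, 1, 2, 1, 2, 1, 3, 1, 3, 1, 3, 1, 3, 1, 3, 1]],
   [[0, 0],
    [0, 0],
    [0, 0],
    [0, 0],
    [0, 0],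
    [2, 2, 2],
    [2, 2, 2],
    [2, 2, 2],
    [2, 2, 2],
    [2, 2, 2],
    [3, 1, 3, 1, 3, 1, 3, 1, 3, 1, 3, 1, 3, 1, 3, 1, 3, 1, 3, 1, 3, 1, 3, 1, 3, 1, 3, 1, 3, 1],
    [5, 5, 5, 0, 4, 0, 5, 5, 0, 4, 0, 4, 4, 0]]]

/-- the relators of level 2 -/
def relL2 : List (List ℕ) :=
  [[0, 0],
    [2, 2, 2],
    [0, 2, 0, 2, 0, 2, 0, 2, 0, 2, 0, 2, 0, 2, 0, 2, 0, 2, 0, 2, 0, 2, 0, 2, 0, 2, 0, 2, 0, 2],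
    [0, 2, 0, 2, 0, 2, 0, 2, 0, 2, 0, 3, 0, 3, 0, 3, 0, 2, 0, 2, 0, 2, 0, 2, 0, 2, 0, 3, 0, 3, 0, 3]]

/-- the factorisations of level 2 -/
def facsL2 : List (List (List ℕ)) :=
  [[[0, 0],
    [0, 0],
    [0, 0],
    [0, 0],
    [0, 0],
    [0, 0],
    [0, 0],
    [2, 2, 2],
    [2, 2, 2],
    [2, 2, 2],
    [2, 2, 2],
    [2, 2, 2],
    [3, 1, 3, 1, 3, 1, 3, 1, 3, 1, 3, 1, 3, 1, 3, 1, 3, 1, 3, 1, 3, 1, 3, 1, 3, 1, 3, 1, 3, 1]],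
   [[0, 0],
    [0, 0],
    [0, 0],
    [0, 0],
    [0, 0],
    [0, 0],
    [0, 0],
    [0, 0],
    [2, 2, 2],
    [2, 1, 2, 1, 2, 1, 3, 1, 3, 1, 3, 1, 3, 1, 3, 1, 2, 1, 2, 1, 2, 1, 3, 1, 3, 1, 3, 1, 3, 1, 3, 1]]]

/-- the word `(b c d e) ^ 7` -/
def K7 : List ℕ := [2, 4, 6, 8, 2, 4, 6, 8, 2, 4, 6, 8, 2, 4, 6, 8, 2, 4, 6, 8, 2, 4, 6, 8, 2, 4, 6, 8]

/-- the subgroup words of level 0: seven commutators -/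
def subs0 : List (List ℕ) :=
  [commL2 [4] [6], commL2 [6] [8], commL2 [6] [10], commL2 [4] K7, commL2 [6] K7, commL2 [8] K7,
    commL2 [10] K7]

/-- the subgroup words of level 1: the canonical lifts of `u` and `v` -/
def subs1 : List (List ℕ) :=
  [0 :: (facsL2.getD 0 []).flatten, 2 :: (facsL2.getD 1 []).flatten]

/-- no subgroup words at level 2 -/
def subs2 : List (List ℕ) := []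

end Cfsg.Agent.Lib.Helper28.HeMult.Words
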